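import Mathlib
import Cfsg.Agent.Lib.ClMax.SLMonoA
import Cfsg.Agent.Lib.C6.Core
import Cfsg.Agent.Lib.Gold.App3
import Cfsg.Agent.Lib.Gold.All

/-! Rigid overgroups of the monomial group in dimension four and odd characteristic. -/

set_option autoImplicit false
set_option linter.unusedSectionVars false

namespace CfsgLib.Low4

open CfsgLib.ClMax CfsgLib.ClMax.Mono Module

variable {F : Type*} [Field F] {V : Type*} [AddCommGroup V] [Module F V]
  {b : Fin 4 → V} {ε : Fin 4 → Dual F V} {X : Subgroup (V ≃ₗ[F] V)} {a : F}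

/-- `g` is diagonal with entries `s`. -/
def Dia (b : Fin 4 → V) (g : V ≃ₗ[F] V) (s : Fin 4 → F) : Prop := ∀ i, g (b i) = s i • b i

/-- the function with value `x` at `i, j` and `y` elsewhere -/
def blk (i j : Fin 4) (x y : F) : Fin 4 → F := fun k => if k = i ∨ k = j then x else y

theorem Dia.coord (h : Fr b ε) {g : V ≃ₗ[F] V} {s : Fin 4 → F} (hg : Dia b g s) (x : V)
    (i : Fin 4) : ε i (g x) = s i * ε i x :=
  h.ext' (φ := ε i ∘ₗ (g : V →ₗ[F] V)) (ψ := s i • ε i) (fun k => by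
    by_cases hk : i = k
    · subst hk; simp [hg i, h.self]
    · simp [hg k, h.ne hk]) x

theorem fr_eq (h : Fr b ε) {g k : V ≃ₗ[F] V} (H : ∀ i, g (b i) = k (b i)) : g = k :=
  LinearEquiv.ext fun x => h.ext' (φ := (g : V →ₗ[F] V)) (ψ := (k : V →ₗ[F] V)) H x

theorem fr_ne (h : Fr b ε) {g : V ≃ₗ[F] V} {i j : Fin 4} {c : F} (H : g (b i) = c • b j) :
    c ≠ 0 := by
  rintro rfl
  simpa [(LinearEquiv.map_eq_zero_iff g).1 (by simpa using H)] using h.self i

theorem diag_of_quad (h : Fr b ε) {y : V ≃ₗ[F] V} (hy : IsMono b y) {k : Fin 4} {s : F}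
    (hs : s ≠ 0) (hq : y (y (b k)) - s • y (b k) + b k = 0) : ∃ c : F, y (b k) = c • b k := by
  obtain ⟨l, c, hl⟩ := hy k
  by_cases hlk : l = k
  · exact ⟨c, hlk ▸ hl⟩
  obtain ⟨l', c', hl'⟩ := hy l
  have hc := fr_ne h hl
  have h1 : l ≠ l' := by
    rintro rfl
    have : c' • b k = c • b l := y.injective (by rw [map_smul, map_smul, hl, hl', smul_comm])
    simpa [h.ne hlk, h.self, hc.symm] using congrArg (ε l) this
  have := congrArg (ε l) hq
  rw [hl, map_smul, hl'] at this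
  simp [h.ne h1, h.ne hlk, h.self, hs, hc] at this

theorem odd_or_four {κ : F} (N : ℕ) (hN : 0 < N) (h : κ ^ N = 1) :
    (∃ n, (κ ^ (2 * n + 1)) ^ 2 = 1) ∨ ∃ n, (κ ^ n) ^ 2 = -1 := by
  induction N using Nat.strong_induction_on with
  | _ N ih =>
    rcases Nat.even_or_odd' N with ⟨n, rfl | rfl⟩
    · rcases sq_eq_sq_iff_eq_or_eq_neg.1 (show (κ ^ n) ^ 2 = 1 ^ 2 by
        rw [← pow_mul, mul_comm, h, one_pow]) with h1 | h1
      · exact ih n (by omega) (by omega) h1
      · rcases Nat.even_or_odd' n with ⟨m, rfl | rfl⟩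
        · exact Or.inr ⟨m, by rw [← pow_mul, mul_comm, h1]⟩
        · exact Or.inl ⟨m, by rw [h1]; ring⟩
    · exact Or.inl ⟨n, by rw [h]; ring⟩

theorem signs (h2 : (2 : F) ≠ 0) {s : Fin 4 → F} (hs : ∀ i, s i = 1 ∨ s i = -1)
    (hp : ∏ i, s i = 1) : (∀ i, s i = 1) ∨ (∀ i, s i = -1) ∨ ∃ i j, i ≠ j ∧ s = blk i j (-1) 1 := by
  have h3 : (-1 : F) ≠ 1 := fun h => h2 (by linear_combination -h)
  rw [Fin.prod_univ_four] at hp
  rcases hs 0 with a0 | a0 <;> rcases hs 1 with a1 | a1 <;> rcases hs 2 with a2 | a2 <;>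
    rcases hs 3 with a3 | a3 <;> simp only [a0, a1, a2, a3, mul_one, mul_neg, neg_neg, h3] at hp
  · exact Or.inl fun i => by fin_cases i <;> assumption
  · exact Or.inr (Or.inr ⟨2, 3, by decide, funext fun i => by fin_cases i <;> simpa [blk]⟩)
  · exact Or.inr (Or.inr ⟨1, 3, by decide, funext fun i => by fin_cases i <;> simpa [blk]⟩)
  · exact Or.inr (Or.inr ⟨1, 2, by decide, funext fun i => by fin_cases i <;> simpa [blk]⟩)
  · exact Or.inr (Or.inr ⟨0, 3, by decide, funext fun i => by fin_cases i <;> simpa [blk]⟩)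
  · exact Or.inr (Or.inr ⟨0, 2, by decide, funext fun i => by fin_cases i <;> simpa [blk]⟩)
  · exact Or.inr (Or.inr ⟨0, 1, by decide, funext fun i => by fin_cases i <;> simpa [blk]⟩)
  · exact Or.inr (Or.inl fun i => by fin_cases i <;> assumption)

/-- the standing hypotheses -/
structure Rig (b : Fin 4 → V) (ε : Fin 4 → Dual F V) (X : Subgroup (V ≃ₗ[F] V)) (a : F) : Prop
    extends Fr b ε where
  two : (2 : F) ≠ 0
  a0 : a ≠ 0
  a4 : a ^ 4 ≠ 1
  dg : ∀ s : Fin 4 → F, (∀ i, s i = 1 ∨ s i = -1 ∨ s i = a ∨ s i = a⁻¹) → ∏ i, s i = 1 →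
    ∃ g ∈ X, Dia b g s
  det : ∀ g ∈ X, ∀ s, Dia b g s → ∏ i, s i = 1
  sw : ∃ v ∈ X, v (b 0) = b 1 ∧ v (b 1) = b 0 ∧ v (b 2) = b 3 ∧ v (b 3) = b 2
  rig : ∀ g ∈ X, ∀ i j, ∀ c : F, g (b i) = c • b j → IsMono b g

namespace Rig

variable (h : Rig b ε X a)
include h

theorem sum_ne : a + a⁻¹ ≠ 0 := fun h0 => h.a4 (by
  have := h.a0
  have h1 : a ^ 2 = -1 := by field_simp at h0; linear_combination h0
  linear_combination (a ^ 2 - 1) * h1)

theorem ne_inv : a⁻¹ ≠ a := fun h0 => h.a4 (by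
  have := h.a0
  have h1 : a ^ 2 = 1 := by field_simp at h0; linear_combination -h0
  linear_combination (a ^ 2 + 1) * h1)

theorem ne_one : 1 ≠ a := fun h0 => h.a4 (by rw [← h0]; ring)

theorem neg_ne : (-1 : F) ≠ 1 := fun h0 => h.two (by linear_combination -h0)

theorem of_inv {g : V ≃ₗ[F] V} (hg : g ∈ X) {i j : Fin 4} {c : F} (H : g⁻¹ (b i) = c • b j) :
    IsMono b g :=
  h.rig g hg j i c⁻¹ (by
    rw [← apply_inv_apply g (b i), H, map_smul, inv_smul_smul₀ (fr_ne h.toFr H)])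

theorem inv {g : V ≃ₗ[F] V} (hg : g ∈ X) (H : IsMono b g) : IsMono b g⁻¹ :=
  let ⟨_, _, e⟩ := H 0; h.of_inv (X.inv_mem hg) (by simpa using e)

theorem blk_mem {i j : Fin 4} (hij : i ≠ j) {x y : F} (hx : x = -1 ∧ y = 1 ∨ x = a ∧ y = a⁻¹) :
    ∃ g ∈ X, Dia b g (blk i j x y) := by
  refine h.dg _ (fun k => ?_) ?_
  · unfold blk; split_ifs <;> tauto
  · have := h.a0
    have e : x * x * y * y = 1 := by rcases hx with ⟨rfl, rfl⟩ | ⟨rfl, rfl⟩ <;> field_simp
    rw [Fin.prod_univ_four, ← e]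
    fin_cases i <;> fin_cases j <;> first | exact absurd rfl hij | (simp [blk, -mul_eq_mul_right_iff, -mul_eq_mul_left_iff] <;> ring)

/-- a conjugate of a diagonal involution is diagonal only under a monomial element -/
theorem of_diag {g r : V ≃ₗ[F] V} (hg : g ∈ X) {i j : Fin 4} (hij : i ≠ j)
    (hr : Dia b r (blk i j (-1) 1)) (H : ∀ k, ∃ c : F, (g * r * g⁻¹) (b k) = c • b k) :
    IsMono b g := by
  have ha := h.a0
  obtain ⟨d, hdX, hd⟩ := h.dg (fun k => if k = i then a else if k = j then a⁻¹ else 1)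
    (fun k => by split_ifs <;> simp) (by
      rw [Fin.prod_univ_four]
      fin_cases i <;> fin_cases j <;> first | exact absurd rfl hij | simp [ha])
  have hc := hd.coord h.toFr
  have hrc := hr.coord h.toFr
  have h1 : ∀ x, r x = x → d x = x := fun x hx => h.ext fun k => by
    have := hrc x k
    rw [hx] at this
    rw [hc]
    by_cases hk : k = i ∨ k = j
    · have h0 : ε k x = 0 := mul_left_cancel₀ h.two (by
        simp only [blk, hk, if_true] at this; linear_combination this)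
      simp [h0]
    · push Not at hk; simp [hk]
  have h2 : ∀ x, r x = -x → d (d x) - (a + a⁻¹) • d x + x = 0 := fun x hx => h.ext fun k => by
    have := hrc x k
    rw [hx] at this
    simp only [map_add, map_sub, map_smul, hc, map_zero, smul_eq_mul]
    by_cases hi : k = i
    · simp only [hi, if_true]; field_simp; ring
    by_cases hj : k = j
    · simp only [hj, hij.symm, if_true, if_false]; field_simp; ring
    have h0 : ε k x = 0 := mul_left_cancel₀ h.two (by
      simp only [blk, hi, hj, or_self, if_false, map_neg] at this; linear_combination -this)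
    simp [h0]
  have h3 : ∀ k, r (g⁻¹ (b k)) = g⁻¹ (b k) ∨ r (g⁻¹ (b k)) = -g⁻¹ (b k) := fun k => by
    obtain ⟨c, e⟩ := H k
    have e' : r (g⁻¹ (b k)) = c • g⁻¹ (b k) := g.injective (by
      rw [map_smul, apply_inv_apply, ← e]; rfl)
    obtain ⟨l, hl⟩ := h.exists_ne' (x := g⁻¹ (b k)) fun h0 => by
      simpa [(LinearEquiv.map_eq_zero_iff _).1 h0] using h.self k
    have := hrc (g⁻¹ (b k)) l
    rw [e', map_smul, smul_eq_mul] at this
    have h4 := mul_right_cancel₀ hl this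
    unfold blk at h4
    split_ifs at h4 <;> simp [e', h4, -LinearEquiv.coe_inv]
  obtain ⟨k, hk⟩ : ∃ k, r (g⁻¹ (b k)) = g⁻¹ (b k) := by
    by_contra h0
    push Not at h0
    obtain ⟨m, hm⟩ : ∃ m : Fin 4, ¬ (m = i ∨ m = j) := by
      fin_cases i <;> fin_cases j <;> decide
    have := h.ext' (φ := (r : V →ₗ[F] V) ∘ₗ (g⁻¹ : V ≃ₗ[F] V)) (ψ := -((g⁻¹ : V ≃ₗ[F] V) : V →ₗ[F] V))
      (fun k => (h3 k).resolve_left (h0 k)) (g (b m))
    simp only [LinearMap.comp_apply, LinearEquiv.coe_coe, LinearMap.neg_apply, LinearEquiv.coe_inv,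
      LinearEquiv.symm_apply_apply, hr m, blk, hm, if_false, one_smul] at this
    exact h.neg_ne (by simpa [h.self] using (congrArg (ε m) this).symm)
  have hm : IsMono b (g * d * g⁻¹) :=
    h.rig _ (X.mul_mem (X.mul_mem hg hdX) (X.inv_mem hg)) k k 1 (by
      rw [LinearEquiv.mul_apply, LinearEquiv.mul_apply, h1 _ hk, apply_inv_apply, one_smul])
  obtain ⟨k, hk⟩ := h.exists_ne (φ := ε i ∘ₗ ((g⁻¹ : V ≃ₗ[F] V) : V →ₗ[F] V)) fun h0 => by
    simpa [h.self] using LinearMap.congr_fun h0 (g (b i))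
  obtain ⟨c, e⟩ : ∃ c : F, d (g⁻¹ (b k)) = c • g⁻¹ (b k) := by
    rcases h3 k with e | e
    · exact ⟨1, by rw [h1 _ e, one_smul]⟩
    · obtain ⟨c, e'⟩ := diag_of_quad h.toFr hm (k := k) h.sum_ne (by
        have := congrArg g (h2 _ e)
        simpa using this)
      exact ⟨c, g.injective (by rw [map_smul, apply_inv_apply, ← e']; rfl)⟩
  have e1 : ∀ l, (if l = i then a else if l = j then a⁻¹ else 1) * ε l (g⁻¹ (b k)) =
      c * ε l (g⁻¹ (b k)) := fun l => by rw [← hc, e, map_smul, smul_eq_mul]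
  obtain rfl : a = c := mul_right_cancel₀ hk (by simpa using e1 i)
  refine h.of_inv hg (i := k) (h.eq_smul (j := i) fun l hl => ?_)
  by_contra h0
  have := mul_right_cancel₀ h0 (e1 l)
  simp only [hl, if_false] at this
  split_ifs at this
  exacts [h.ne_inv this, h.ne_one this]

/-- a conjugate of a diagonal involution is monomial only under a monomial element -/
theorem of_mono {g r : V ≃ₗ[F] V} (hg : g ∈ X) {i j : Fin 4} (hij : i ≠ j)
    (hr : Dia b r (blk i j (-1) 1)) (H : IsMono b (g * r * g⁻¹)) : IsMono b g := by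
  classical
  have ha := h.a0
  by_cases h0 : ∀ k, ∃ c : F, (g * r * g⁻¹) (b k) = c • b k
  · exact h.of_diag hg hij hr h0
  obtain ⟨w, hw⟩ : ∃ w, w = g * r * g⁻¹ := ⟨_, rfl⟩
  have hrr : r * r = 1 := fr_eq h.toFr fun k => by
    rw [LinearEquiv.mul_apply, hr, map_smul, hr, smul_smul]; unfold blk; split_ifs <;> simp
  have hww : ∀ x, w (w x) = x := fun x => by
    rw [← LinearEquiv.mul_apply, show w * w = g * (r * r) * g⁻¹ by rw [hw]; group, hrr]; simp
  rw [← hw] at H h0
  push Not at h0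
  obtain ⟨k, hk⟩ := h0
  obtain ⟨l, c, hl⟩ := H k
  have hkl : k ≠ l := by rintro rfl; exact hk c hl
  have hc := fr_ne h.toFr hl
  have hl' : w (b l) = c⁻¹ • b k := by rw [← hww (b k), hl, map_smul, inv_smul_smul₀ hc]
  obtain ⟨t, htX, ht⟩ := h.blk_mem hkl (Or.inr ⟨rfl, rfl⟩)
  obtain ⟨u, huX, hu⟩ := h.blk_mem hkl (Or.inl ⟨rfl, rfl⟩)
  have htw : t * w = w * t := fr_eq h.toFr fun m => by
    obtain ⟨n, c', hn⟩ := H m
    have e : blk k l a a⁻¹ n = blk k l a a⁻¹ m := by
      have e1 := hww (b m)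
      rw [hn, map_smul] at e1
      by_cases hm : m = k ∨ m = l
      · rcases hm with rfl | rfl
        · by_cases hn' : n = l
          · simp [blk, hn']
          · rw [hl] at hn
            simpa [h.self, h.ne (Ne.symm hn'), hc] using congrArg (ε l) hn
        · by_cases hn' : n = k
          · simp [blk, hn']
          · rw [hl'] at hn
            simpa [h.self, h.ne (Ne.symm hn'), hc] using congrArg (ε k) hn
      · have hn' : ¬ (n = k ∨ n = l) := by
          push Not at hm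
          rintro (rfl | rfl)
          · rw [hl] at e1
            simpa [h.self, h.ne hm.2] using congrArg (ε m) e1
          · rw [hl'] at e1
            simpa [h.self, h.ne hm.1] using congrArg (ε m) e1
        simp only [blk, hm, hn']
    simp only [LinearEquiv.mul_apply, hn, ht m, map_smul, ht n, e, smul_comm c']
  have htc := ht.coord h.toFr
  have hX' := X.mul_mem (X.mul_mem (X.inv_mem hg) htX) hg
  have hm : IsMono b (g⁻¹ * t * g) := h.of_diag hX' hij hr fun m => ⟨_, by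
    rw [show g⁻¹ * t * g * r * (g⁻¹ * t * g)⁻¹ = g⁻¹ * (t * w) * t⁻¹ * g by rw [hw]; group, htw,
      show g⁻¹ * (w * t) * t⁻¹ * g = r by rw [hw]; group, hr]⟩
  refine h.of_inv hg (h.of_diag (X.inv_mem hg) hkl hu (fun m => ?_) 0).choose_spec.choose_spec
  obtain ⟨e, he⟩ := diag_of_quad h.toFr hm (k := m) h.sum_ne (g.injective (by
    simp only [LinearEquiv.mul_apply, map_add, map_sub, map_smul, apply_inv_apply, map_zero]
    refine h.ext fun n => ?_
    simp only [map_add, map_sub, map_smul, htc, map_zero, smul_eq_mul, blk]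
    split_ifs <;> field_simp <;> ring))
  have e1 : ∀ n, blk k l a a⁻¹ n * ε n (g (b m)) = e * ε n (g (b m)) := fun n => by
    rw [← htc, ← smul_eq_mul, ← map_smul, ← map_smul, ← he]; simp
  refine ⟨if e = a then -1 else 1, g.injective ?_⟩
  rw [inv_inv, LinearEquiv.mul_apply, LinearEquiv.mul_apply, apply_inv_apply, map_smul]
  refine h.ext fun n => ?_
  rw [hu.coord h.toFr, map_smul, smul_eq_mul]
  by_cases h0 : ε n (g (b m)) = 0
  · simp [h0]
  have := mul_right_cancel₀ h0 (e1 n)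
  unfold blk at this ⊢
  split_ifs at this ⊢ with h1 h2 h2
  · rfl
  · exact absurd this.symm h2
  · exact absurd (this.trans h2) h.ne_inv
  · rfl

/-- In the rigid case the overgroup is monomial. -/
theorem mono [Finite F] [Finite V] {g : V ≃ₗ[F] V} (hg : g ∈ X) : IsMono b g := by
  classical
  have : Finite (V ≃ₗ[F] V) := Finite.of_injective _ DFunLike.coe_injective
  let R : Subgroup (V ≃ₗ[F] V) :=
    { carrier := {r | r ∈ X ∧ ∀ i, r (b i) = b i ∨ r (b i) = -b i}
      mul_mem' := fun {x y} hx hy => ⟨X.mul_mem hx.1 hy.1, fun i => by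
        rcases hx.2 i with e | e <;> rcases hy.2 i with e' | e' <;> simp [e, e']⟩
      one_mem' := ⟨X.one_mem, fun i => Or.inl rfl⟩
      inv_mem' := fun {x} hx => ⟨X.inv_mem hx.1, fun i => (hx.2 i).imp
        (fun e => x.injective (by rw [apply_inv_apply, e]))
        fun e => x.injective (by rw [apply_inv_apply, map_neg, e, neg_neg])⟩ }
  let Z : Subgroup (V ≃ₗ[F] V) :=
    { carrier := {r | (∀ x, r x = x) ∨ ∀ x, r x = -x}
      mul_mem' := fun {x y} hx hy => by
        rcases hx with e | e <;> rcases hy with e' | e' <;> simp [e, e']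
      one_mem' := Or.inl fun _ => rfl
      inv_mem' := fun {x} hx => hx.imp
        (fun e v => x.injective (by rw [apply_inv_apply, e]))
        fun e v => x.injective (by rw [apply_inv_apply, map_neg, e, neg_neg]) }
  have hZR : Z ≤ R := fun z hz => ⟨by
    rcases hz with e | e
    · rw [show z = 1 from LinearEquiv.ext e]; exact X.one_mem
    · obtain ⟨k, hk, hk'⟩ := h.dg (fun _ => -1) (by simp) (by simp; ring)
      rwa [show z = k from fr_eq h.toFr fun i => by simp [e, hk' i]], fun i => hz.imp (· _) (· _)⟩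
  have hZ : ∀ g c : V ≃ₗ[F] V, c ∈ Z → c * g = g * c := fun g c hc => LinearEquiv.ext fun x => by
    rcases hc with e | e <;> simp [e]
  have toZ : ∀ {r : V ≃ₗ[F] V} {c : F}, c ^ 2 = 1 → (∀ i, r (b i) = c • b i) → r ∈ Z := by
    intro r c hc H
    rcases sq_eq_sq_iff_eq_or_eq_neg.1 (show c ^ 2 = 1 ^ 2 by rw [hc, one_pow]) with rfl | rfl
    · exact Or.inl (h.ext' (φ := (r : V →ₗ[F] V)) (ψ := LinearMap.id) (by simpa using H))
    · exact Or.inr (h.ext' (φ := (r : V →ₗ[F] V)) (ψ := -LinearMap.id) (by simpa using H))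
  have cls : ∀ r ∈ R, r ∉ Z → ∃ i j, i ≠ j ∧ Dia b r (blk i j (-1) 1) := fun r hr hr' => by
    have H : Dia b r fun i => if r (b i) = b i then 1 else -1 := fun i => by
      by_cases e : r (b i) = b i
      · simp [e]
      · simp only [if_neg e]; simp [(hr.2 i).resolve_left e]
    rcases signs h.two (fun i => by split_ifs <;> simp) (h.det r hr.1 _ H) with e | e | ⟨i, j, e, e'⟩
    · exact absurd (toZ (c := 1) (by simp) fun i => by rw [H i]; simp only [e i]) hr'
    · exact absurd (toZ (c := -1) (by simp) fun i => by rw [H i]; simp only [e i]) hr'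
    · exact ⟨i, j, e, e' ▸ H⟩
  have dR : ∀ r ∈ R, ∀ k, ∃ c : F, r (b k) = c • b k := fun r hr k =>
    (hr.2 k).elim (fun e => ⟨1, by simp [e]⟩) fun e => ⟨-1, by simp [e]⟩
  have cR : ∀ g ∈ X, IsMono b g → ∀ r ∈ R, g * r * g⁻¹ ∈ R := fun g hg hm r hr =>
    ⟨X.mul_mem (X.mul_mem hg hr.1) (X.inv_mem hg), fun k => by
      obtain ⟨l, c, e⟩ := h.inv hg hm k
      have e' : g (c • b l) = b k := by rw [← e, apply_inv_apply]
      rw [LinearEquiv.mul_apply, LinearEquiv.mul_apply, e, map_smul]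
      rcases hr.2 l with e1 | e1
      · rw [e1, e']; exact Or.inl rfl
      · rw [e1, smul_neg, map_neg, e']; exact Or.inr rfl⟩
  have zz : ∀ i j : Fin 4, i ≠ j → ∃ z ∈ R, z ∉ Z ∧ z * z ∈ Z ∧ Dia b z (blk i j (-1) 1) := by
    intro i j hij
    obtain ⟨z, hz, hz'⟩ := h.blk_mem hij (Or.inl ⟨rfl, rfl⟩)
    obtain ⟨m, hm⟩ : ∃ m : Fin 4, ¬ (m = i ∨ m = j) := by
      fin_cases i <;> fin_cases j <;> decide
    refine ⟨z, ⟨hz, fun k => ?_⟩, ?_, toZ (c := 1) (by simp) fun k => ?_, hz'⟩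
    · rw [hz' k]; unfold blk; split_ifs <;> simp
    · rintro (e | e)
      · exact h.neg_ne (by simpa [e, blk, h.self] using (congrArg (ε i) (hz' i)).symm)
      · exact h.neg_ne (by simpa [e, blk, hm, h.self] using (congrArg (ε m) (hz' m)))
    · rw [LinearEquiv.mul_apply, hz', map_smul, hz', smul_smul]; unfold blk; split_ifs <;> simp
  obtain ⟨z, hzR, hzZ, hzz, hz⟩ := zz 0 1 (by decide)
  obtain ⟨z', hzR', hzZ', hzz', hz'⟩ := zz 0 2 (by decide)
  have toN : ∀ g ∈ X, IsMono b g → g ∈ Subgroup.normalizer (R : Set (V ≃ₗ[F] V)) :=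
    fun g hg hm => Subgroup.mem_normalizer_fintype (cR g hg hm)
  have ofN : ∀ g ∈ X, g ∈ Subgroup.normalizer (R : Set (V ≃ₗ[F] V)) → IsMono b g :=
    fun g hg hn => h.of_diag hg (by decide) hz (dR _ ((Subgroup.mem_normalizer_iff.1 hn z).1 hzR))
  by_contra hm
  obtain ⟨M, hRM, hMX, hMN, hcj, hinv⟩ := C6.exists_core (X := X) (R := R) (Z := Z)
    (fun G _ _ T S hS hsc H hH hC hN =>
      (CfsgLib.Gold.App.s3289 CfsgLib.Gold.inputs T S hS hsc H hH hC hN).1)
    hZR (fun r hr => hr.1) (fun g _ c hc => hZ g c hc) (fun _ _ => Iff.rfl)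
    (fun r hr => Or.inl (h.ext' (φ := ((r * r : V ≃ₗ[F] V) : V →ₗ[F] V)) (ψ := LinearMap.id)
      fun i => by rcases hr.2 i with e | e <;> simp [e]))
    ⟨z, hzR, hzZ⟩
    (fun g hg r hr hr' e => by
      obtain ⟨i, j, hij, H⟩ := cls r hr hr'
      exact toN g hg (h.of_diag hg hij H (dR _ (by simpa using R.mul_mem (hZR e) hr))))
    (fun g hg r hr e => by
      by_cases hr' : r ∈ Z
      · rwa [← hZ g r hr', mul_inv_cancel_right]
      obtain ⟨i, j, hij, H⟩ := cls r hr hr'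
      exact cR g hg (h.of_mono hg hij H
        (ofN _ (X.mul_mem (X.mul_mem hg hr.1) (X.inv_mem hg)) e)) r hr)
    (fun H => hm (ofN g hg (H hg)))
  have key : ∀ y ∈ M, y * y ∈ Z → y ∈ R := fun y hy hyy => by
    by_cases hy' : y ∈ Z
    · exact hZR hy'
    obtain ⟨m, hm, e⟩ := hinv z (hRM hzR) y hy hzZ hy' hzz hyy
    have := R.mul_mem (R.inv_mem (hZR e)) (cR m (hMX hm) (ofN m (hMX hm) (hMN hm)) z hzR)
    rwa [show (m * z * m⁻¹ * y⁻¹)⁻¹ * (m * z * m⁻¹) = y by group] at this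
  obtain ⟨m, hmM, hm'⟩ := hinv z (hRM hzR) z' (hRM hzR') hzZ hzZ' hzz hzz'
  have hmm := ofN m (hMX hmM) (hMN hmM)
  obtain ⟨v, hv, v0, v1, v2, v3⟩ := h.sw
  have hvv : v * v = 1 := fr_eq h.toFr fun i => by fin_cases i <;> simp [v0, v1, v2, v3]
  have hvm : IsMono b v := h.rig v hv 0 1 1 (by simp [v0])
  have hvz : v * z = z * v := fr_eq h.toFr fun i => by
    fin_cases i <;> simp [v0, v1, v2, v3, hz _, blk]
  obtain ⟨w, hw⟩ : ∃ w, w = m * v * m⁻¹ := ⟨_, rfl⟩
  have hy : v * w ∈ M := by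
    have := M.mul_mem (hcj v hv (toN v hv hvm) m hmM) (M.inv_mem hmM)
    rwa [inv_eq_of_mul_eq_one_right hvv, show v * m * v * m⁻¹ = v * w by rw [hw]; group] at this
  have hww : ∀ x, w (w x) = x := fun x => by
    rw [← LinearEquiv.mul_apply, show w * w = m * (v * v) * m⁻¹ by rw [hw]; group, hvv]; simp
  have hwz : w * z' = z' * w := by
    obtain ⟨c, hc⟩ : ∃ c, c = m * z * m⁻¹ * z'⁻¹ := ⟨_, rfl⟩
    rw [← hc] at hm'
    have e : z' = c⁻¹ * (m * z * m⁻¹) := by rw [hc]; group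
    calc w * z' = (w * c⁻¹) * (m * z * m⁻¹) := by rw [e]; group
      _ = c⁻¹ * (m * (v * z) * m⁻¹) := by rw [← hZ w _ (Z.inv_mem hm'), hw]; group
      _ = z' * w := by rw [hvz, e, hw]; group
  have hwk : ∀ k l : Fin 4, (∀ n : Fin 4, k ≠ n → (n = 0 ∨ n = 2 ↔ k = 0 ∨ k = 2) → n = l) →
      ∃ c : F, w (b k) = c • b l := fun k l H => by
    obtain ⟨p, c, e⟩ := h.inv (hMX hmM) hmm k
    obtain ⟨p', c', e'⟩ := hvm p
    obtain ⟨n, c'', e''⟩ := hmm p'
    have e1 : w (b k) = (c * c' * c'') • b n := by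
      rw [hw, LinearEquiv.mul_apply, LinearEquiv.mul_apply, e, map_smul, e', map_smul, map_smul, e'',
        smul_smul, smul_smul]
    have c0 := fr_ne h.toFr e1
    refine ⟨_, H n ?_ ?_ ▸ e1⟩
    · rintro rfl
      have e2 : c'' • (c • b p) = b p' := m.injective (by
        rw [map_smul, ← e, apply_inv_apply, e''])
      have e3 : p = p' := by
        by_contra h0
        simpa [h.self, h.ne (Ne.symm h0)] using congrArg (ε p') e2
      subst e3
      fin_cases p
      · simpa [v0, h.self, h.ne] using congrArg (ε 1) e'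
      · simpa [v1, h.self, h.ne] using congrArg (ε 0) e'
      · simpa [v2, h.self, h.ne] using congrArg (ε 3) e'
      · simpa [v3, h.self, h.ne] using congrArg (ε 2) e'
    · have e2 := congrArg (ε n) (LinearEquiv.congr_fun hwz (b k))
      simp only [LinearEquiv.mul_apply, hz' k, e1, map_smul, hz' n, h.self, smul_eq_mul,
        mul_one] at e2
      have e3 := mul_right_cancel₀ c0 (e2.trans (mul_comm _ _))
      unfold blk at e3
      split_ifs at e3 with h1 h2 h2
      · simp [h1, h2]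
      · exact absurd e3 h.neg_ne
      · exact absurd e3.symm h.neg_ne
      · simp [h1, h2]
  obtain ⟨α, w0⟩ := hwk 0 2 (by decide)
  obtain ⟨β, w1⟩ := hwk 1 3 (by decide)
  have hα := fr_ne h.toFr w0
  have hβ := fr_ne h.toFr w1
  have w2 : w (b 2) = α⁻¹ • b 0 := by rw [← hww (b 0), w0, map_smul, inv_smul_smul₀ hα]
  have w3 : w (b 3) = β⁻¹ • b 1 := by rw [← hww (b 1), w1, map_smul, inv_smul_smul₀ hβ]
  obtain ⟨κ, hκ⟩ : ∃ κ, κ = α * β⁻¹ := ⟨_, rfl⟩
  have κ0 : κ ≠ 0 := by simp [hκ, hα, hβ]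
  obtain ⟨y, hy'⟩ : ∃ y, y = v * w := ⟨_, rfl⟩
  have y0 : y (b 0) = α • b 3 := by simp [hy', w0, v2]
  have hd : ∀ n, Dia b ((y * y) ^ n) (blk 0 3 (κ ^ n) (κ ^ n)⁻¹) := fun n => by
    induction n with
    | zero => intro i; simp [blk]
    | succ n ih =>
      intro i
      rw [pow_succ', LinearEquiv.mul_apply, ih i, map_smul]
      fin_cases i <;> simp [hy', w0, w1, w2, w3, v0, v1, v2, v3, blk, smul_smul, pow_succ, hκ] <;>
        congr 1 <;> ring
  rw [← hy'] at hy
  have := Fintype.ofFinite F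
  rcases odd_or_four _ (Nat.sub_pos_of_lt Fintype.one_lt_card)
    (FiniteField.pow_card_sub_one_eq_one κ κ0) with ⟨n, e⟩ | ⟨n, e⟩
  · have e1 := key (y ^ (2 * n + 1)) (M.pow_mem hy _) (toZ e fun i => by
      rw [← pow_two, ← pow_mul, mul_comm, pow_mul, pow_two y, hd _ i]
      unfold blk
      split_ifs
      · rfl
      · rw [inv_eq_of_mul_eq_one_right (by rw [← e, pow_two])])
    obtain ⟨c, e2⟩ := dR _ e1 0
    have c0 := fr_ne h.toFr e2
    rw [pow_succ', pow_mul, pow_two, LinearEquiv.mul_apply, hd n 0, map_smul, y0] at e2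
    simpa [h.self, h.ne, c0.symm] using congrArg (ε 0) e2
  · have k0 : κ ^ n ≠ 0 := pow_ne_zero _ κ0
    have e1 := key ((y * y) ^ n) (M.pow_mem (M.mul_mem hy hy) _) (toZ (c := -1) (by simp) fun i => by
      rw [LinearEquiv.mul_apply, hd n i, map_smul, hd n i, smul_smul]
      unfold blk
      split_ifs
      · rw [← e, pow_two]
      · rw [← mul_inv, ← pow_two, e]; simp)
    have e2 := e1.2 0
    rw [hd n 0] at e2
    rcases e2 with e2 | e2
    · have e3 : κ ^ n = 1 := by simpa [blk, h.self] using congrArg (ε 0) e2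
      exact h.neg_ne (by rw [← e, e3]; ring)
    · have e3 : κ ^ n = -1 := by simpa [blk, h.self] using congrArg (ε 0) e2
      exact h.neg_ne (by rw [← e, e3]; ring)

end Rig

end CfsgLib.Low4
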