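import Mathlib
import Cfsg.Agent.Lib.Low4.Rig

/-! The monomial group is maximal in `SL_4(q)` for `q ≥ 7`. -/

set_option autoImplicit false
set_option linter.unusedSectionVars false

namespace CfsgLib.Low4

open Cfsg Cfsg.Geo CfsgLib.ClMax CfsgLib.ClMax.Mono Module

variable {F : Type*} [Field F] {V : Type*} [AddCommGroup V] [Module F V]

section gen

variable {τ : Type*} [Fintype τ] [DecidableEq τ] {b : τ → V} {ε : τ → Dual F V}
  {X : Subgroup (V ≃ₗ[F] V)}

theorem exists_ne_three (h : 4 ≤ Fintype.card τ) (a b c : τ) :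
    ∃ x, x ≠ a ∧ x ≠ b ∧ x ≠ c ∧ True := by
  obtain ⟨k, -, hk⟩ := Finset.exists_mem_notMem_of_card_lt_card (s := {a, b, c})
    (t := Finset.univ) (by
      have := Finset.card_le_three (a := a) (b := b) (c := c)
      rw [Finset.card_univ]; omega)
  exact ⟨k, by simpa [not_or] using hk⟩

/-- the standing hypotheses on an overgroup `X` of the monomial group -/
structure Ov4 (b : τ → V) (ε : τ → Dual F V) (X : Subgroup (V ≃ₗ[F] V)) : Prop
    extends Fr b ε where
  five : Five F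
  four : 4 ≤ Fintype.card τ
  mem : ∀ g ∈ SLV F V, IsMono b g → g ∈ X
  le : X ≤ SLV F V

namespace Ov4

variable [FiniteDimensional F V] (h : Ov4 b ε X)
include h

theorem dg {i j : τ} (hij : i ≠ j) {c : F} (hc : c ≠ 0) : ∃ d ∈ X, ∀ x,
    d x = x + ((c - 1) * ε i x) • b i + ((c⁻¹ - 1) * ε j x) • b j := by
  obtain ⟨d, h1, h2⟩ := exists_two (u := b i) (u' := b j) (ψ := (c - 1) • ε i)
    (ψ' := (c⁻¹ - 1) • ε j) (by simp [h.ne hij]) (by simp [h.self, hc])
  refine ⟨d, h.mem d h1 fun k => ⟨k, ?_⟩, h2⟩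
  by_cases hi : i = k
  · subst hi; exact ⟨c, by simp [h2, h.self, h.ne hij.symm, sub_smul]⟩
  by_cases hj : j = k
  · subst hj; exact ⟨c⁻¹, by simp [h2, h.self, h.ne hij, sub_smul]⟩
  · exact ⟨1, by simp [h2, h.ne hi, h.ne hj]⟩

theorem sw {i j s : τ} (hij : i ≠ j) (hi : i ≠ s) (hj : j ≠ s) : ∃ d ∈ X, ∀ x,
    d x = x + (ε j x - ε i x) • (b i - b j) + (-2 * ε s x) • b s := by
  obtain ⟨d, h1, h2⟩ := exists_two (u := b i - b j) (u' := b s) (ψ := ε j - ε i)
    (ψ' := (-2 : F) • ε s) (by simp [h.ne hi, h.ne hj])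
    (by simp [h.self, h.ne hij, h.ne hij.symm]; ring)
  refine ⟨d, h.mem d h1 fun k => ?_, h2⟩
  by_cases h3 : i = k
  · subst h3; exact ⟨j, 1, by simp [h2, h.self, h.ne hij.symm, h.ne hi.symm]⟩
  by_cases h4 : j = k
  · subst h4; exact ⟨i, 1, by simp [h2, h.self, h.ne hij, h.ne hj.symm]⟩
  by_cases h5 : s = k
  · subst h5; exact ⟨s, -1, by simp [h2, h.self, h.ne hi, h.ne hj]; module⟩
  · exact ⟨k, 1, by simp [h2, h.ne h3, h.ne h4, h.ne h5]⟩

theorem SLV_le (hr : Root b ε X) : SLV F V ≤ X := by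
  obtain ⟨i, j, hij, c, hc, ht⟩ := hr
  have h0 : ∀ a : F, HasTv X (b i) (a • ε j) := fun a => by
    by_cases ha : a = 0
    · simpa [ha] using hasTv_zero_right (b i)
    obtain ⟨k, ki, kj, -⟩ := exists_ne_three h.four i j i
    obtain ⟨d, hd, hd'⟩ := h.dg ki.symm (div_ne_zero ha hc)
    have := ht.conj' (φ' := c • ε j) hd fun x => by simp [hd', h.ne hij.symm, h.ne kj.symm]
    rw [show d (b i) = (a / c) • b i by simp [hd', h.self, h.ne ki, sub_smul], hasTv_smul_iff,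
      smul_smul, div_mul_cancel₀ _ hc] at this
    exact this
  have h1 : ∀ i j i', i ≠ j → i' ≠ j → (∀ a : F, HasTv X (b i) (a • ε j)) →
      ∀ a : F, HasTv X (b i') (a • ε j) := fun i j i' hij hij' H a => by
    by_cases hi : i = i'
    · exact hi ▸ H a
    obtain ⟨k, ki, kj, ki', -⟩ := exists_ne_three h.four i j i'
    obtain ⟨d, hd, hd'⟩ := h.sw hi ki.symm ki'.symm
    have := (H a).conj' (φ' := a • ε j) hd fun x => by
      simp [hd', h.ne hij.symm, h.ne hij'.symm, h.ne kj.symm]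
    rwa [show d (b i) = b i' by simp [hd', h.self, h.ne ki, h.ne (Ne.symm hi)]] at this
  have h2 : ∀ i j j', i ≠ j → i ≠ j' → (∀ a : F, HasTv X (b i) (a • ε j)) →
      ∀ a : F, HasTv X (b i) (a • ε j') := fun i j j' hij hij' H a => by
    by_cases hj : j = j'
    · exact hj ▸ H a
    obtain ⟨k, ki, kj, kj', -⟩ := exists_ne_three h.four i j j'
    obtain ⟨d, hd, hd'⟩ := h.sw hj kj.symm kj'.symm
    have := (H a).conj' (φ' := a • ε j') hd fun x => by
      simp [hd', h.self, h.ne (Ne.symm hj), h.ne kj'.symm]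
    rwa [show d (b i) = b i by simp [hd', h.ne ki, h.ne hij.symm, h.ne hij'.symm]] at this
  have h3 : ∀ i' j', i' ≠ j' → ∀ a : F, HasTv X (b i') (a • ε j') := fun i' j' hij' => by
    obtain ⟨k, ki, kj, ki', -⟩ := exists_ne_three h.four i j i'
    exact h2 i' k j' ki'.symm hij' (h1 i k i' ki.symm ki'.symm (h2 i j k hij ki.symm h0))
  refine SLV_le_of_span (eq_top_iff.2 fun v _ => ?_)
  rw [← h.sum v]
  refine Submodule.sum_mem _ fun i _ => Submodule.smul_mem _ _ (Submodule.subset_span fun φ hφ => ?_)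
  have : φ = ∑ k, φ (b k) • ε k := by
    ext x; conv_lhs => rw [← h.sum x]
    simp [mul_comm]
  rw [this]
  refine HasTv.sum_right _ (fun k _ => ?_) fun k _ => ?_
  · by_cases hik : i = k
    · subst hik; simpa [hφ] using hasTv_zero_right (b i)
    · exact h3 i k hik _
  · by_cases hik : k = i
    · subst hik; simp [hφ]
    · simp [h.ne hik]

theorem root_of_tv {s : τ} {ρ : Dual F V} (ht : HasTv X (b s) ρ) (h0 : ρ (b s) = 0) (h1 : ρ ≠ 0) :
    Root b ε X := by
  obtain ⟨c, c0, c1, -⟩ := h.five 0 1 0 0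
  have key : ∀ (ρ : Dual F V) k l, HasTv X (b s) ρ → ρ (b s) = 0 → k ≠ l → k ≠ s → l ≠ s →
      HasTv X (b s) (((c⁻¹ - 1) * ρ (b k)) • ε k + ((c - 1) * ρ (b l)) • ε l) := by
    intro ρ k l ht h0 hkl hk hl
    obtain ⟨d, hd, hd'⟩ := h.dg hkl c0
    have := ht.conj' (φ' := ρ + (((c⁻¹ - 1) * ρ (b k)) • ε k + ((c - 1) * ρ (b l)) • ε l)) hd
      fun x => by
        simp only [hd', LinearMap.add_apply, LinearMap.smul_apply, map_add, map_smul, h.self,
          h.ne hkl, h.ne hkl.symm, smul_eq_mul]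
        field_simp; ring
    rw [show d (b s) = b s by simp [hd', h.ne hk, h.ne hl]] at this
    simpa using this.sub_right ht (by simp [h0, h.ne hk, h.ne hl]) h0
  obtain ⟨k, hk⟩ := h.exists_ne h1
  have hks : k ≠ s := by rintro rfl; exact hk h0
  obtain ⟨l, lk, ls, -⟩ := exists_ne_three h.four k s k
  obtain ⟨l', lk', ls', ll, -⟩ := exists_ne_three h.four k s l
  have := key _ k l' (key ρ k l ht h0 lk.symm hks ls) (by simp [h.ne hks, h.ne ls]) lk'.symm hks ls'
  exact ⟨s, k, hks.symm, (c⁻¹ - 1) * ((c⁻¹ - 1) * ρ (b k)), by simp [sub_eq_zero, c1, hk],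
    by simpa [h.self, h.ne lk, h.ne lk'.symm, h.ne ll.symm] using this⟩

theorem lift (hR : ¬ Root b ε X) {s : τ} {y d : V ≃ₗ[F] V} (hy : y ∈ X) (hd : d ∈ X)
    (h1 : ∀ x k, k ≠ s → ε k (y x) = ε k (d x)) (h2 : y (b s) = d (b s)) {κ : F}
    (h3 : d (b s) = κ • b s) (x : V) : y x = d x := by
  have hκ : κ ≠ 0 := by
    rintro rfl
    simpa [(LinearEquiv.map_eq_zero_iff d).1 (by simpa using h3)] using h.self s
  by_contra hx
  refine hR (h.root_of_tv (s := s) (ρ := κ⁻¹ • ε s ∘ₗ ((y : V →ₗ[F] V) - (d : V →ₗ[F] V)))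
    ⟨d⁻¹ * y, X.mul_mem (X.inv_mem hd) hy, fun x => d.injective ?_⟩ (by simp [h2]) fun h0 => hx ?_)
  · rw [LinearEquiv.mul_apply, apply_inv_apply, map_add, map_smul, h3, smul_smul,
      ← sub_eq_iff_eq_add', h.eq_smul (x := y x - d x) (j := s) fun i hi => by simp [h1 x i hi]]
    simp [mul_right_comm, hκ]
  · refine h.ext fun i => ?_
    by_cases hi : i = s
    · simpa [hi, hκ, sub_eq_zero] using LinearMap.congr_fun h0 x
    · exact h1 x i hi

theorem root_of_mod {s i j : τ} (hij : i ≠ j) (hi : i ≠ s) (hj : j ≠ s) {c : F} (hc : c ≠ 0)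
    {y : V ≃ₗ[F] V} (hy : y ∈ X) (h1 : ∀ x k, k ≠ s → ε k (y x) = ε k (x + (c * ε j x) • b i)) :
    Root b ε X := by
  by_contra hR
  obtain ⟨μ, m0, m1, m2, -⟩ := h.five 0 1 (-1) 0
  obtain ⟨l, li, lj, ls, -⟩ := exists_ne_three h.four i j s
  obtain ⟨d, hd, hd'⟩ := h.dg ls.symm m0
  have hys : y (b s) = ε s (y (b s)) • b s :=
    h.eq_smul fun k hk => by simp [h1 _ k hk, h.ne hk, h.ne hj]
  generalize ε s (y (b s)) = κ at hys
  have hds : d (b s) = μ • b s := by simp [hd', h.self, h.ne ls, sub_smul]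
  have key := h.lift hR (X.mul_mem hy hd) (X.mul_mem hd hy) (s := s) (κ := κ * μ)
    (fun x k hk => by
      simp only [LinearEquiv.mul_apply, h1 _ k hk, hd' (y x), hd' x, h1 _ l ls, map_add, map_smul,
        h.ne hk, h.ne hj, h.ne lj.symm, h.ne li, smul_eq_mul]
      ring)
    (by simp only [LinearEquiv.mul_apply, hys, hds, map_smul, smul_comm κ])
    (by simp only [LinearEquiv.mul_apply, hys, hds, map_smul, smul_smul])
  have h2 : ∀ k, k ≠ s → ε s (y (b k)) = 0 := fun k hk => by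
    have := congrArg (ε s) (key (b k))
    simp only [LinearEquiv.mul_apply, hd', map_add, map_smul, h.ne hk.symm, h.self, h.ne ls.symm,
      smul_eq_mul] at this
    by_cases hkl : l = k
    · subst hkl
      rw [h.self] at this
      refine mul_left_cancel₀ (mul_ne_zero (sub_ne_zero.2 m1) (sub_ne_zero.2 m2)) ?_
      field_simp at this
      linear_combination -this
    · rw [h.ne hkl] at this
      exact mul_left_cancel₀ (sub_ne_zero.2 m1) (by linear_combination -this)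
  have h3 : (y : V →ₗ[F] V) = LinearMap.transvection (c • ε j) (b i) ∘ₗ
      LinearMap.transvection ((κ - 1) • ε s) (b s) := LinearMap.ext <| h.ext' fun k => by
    by_cases hk : k = s
    · subst hk
      simp [LinearMap.transvection.apply, hys, h.self, h.ne hj, sub_smul]
    · refine h.ext fun a => ?_
      by_cases ha : a = s
      · simp [LinearMap.transvection.apply, ha, h2 k hk, h.ne (Ne.symm hk), h.ne hi.symm]
      · simp [LinearMap.transvection.apply, h1 _ a ha, h.ne (Ne.symm hk)]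
  have h4 := mem_SLV.1 (h.le hy)
  rw [h3, LinearMap.det_comp, LinearMap.transvection.det, LinearMap.transvection.det] at h4
  obtain rfl : κ = 1 := by simpa [h.self, h.ne hij.symm] using h4
  exact hR ⟨i, j, hij, c, hc, y, hy, fun x => by
    simpa [LinearMap.transvection.apply] using LinearMap.congr_fun h3 x⟩

theorem root_of_fix {s : τ} {g : V ≃ₗ[F] V} (hg : g ∈ X) (hm : ¬ IsMono b g) {κ : F}
    (hs : g (b s) = κ • b s) : Root b ε X := by
  by_contra hR
  have hκ : κ ≠ 0 := by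
    rintro rfl
    simpa [(LinearEquiv.map_eq_zero_iff g).1 (by simpa using hs)] using h.self s
  have hs' : g.symm (b s) = κ⁻¹ • b s := by
    rw [LinearEquiv.symm_apply_eq, map_smul, hs, inv_smul_smul₀ hκ]
  let L := Submodule.span F {b s}
  have hL : L.mkQ (b s) = 0 := (Submodule.Quotient.mk_eq_zero _).2 (Submodule.mem_span_singleton_self _)
  have dn : ∀ φ : Dual F V, φ (b s) = 0 → ∃ ψ : Dual F (V ⧸ L), ∀ x, ψ (L.mkQ x) = φ x :=
    fun φ hφ => ⟨L.liftQ φ (by simpa [L, Submodule.span_le] using hφ), fun _ => rfl⟩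
  choose ε' hε' using fun i : {i // i ≠ s} => dn (ε i) (h.ne i.2)
  let b' : {i // i ≠ s} → V ⧸ L := fun i => L.mkQ (b i)
  have hFr : Fr b' ε' := by
    refine ⟨fun i => by simp only [b', hε', h.self], fun {i j} hij => by
      simp only [b', hε', h.ne (Subtype.val_injective.ne hij)], fun x => ?_⟩
    obtain ⟨x, rfl⟩ := L.mkQ_surjective x
    conv_rhs => rw [← h.sum x, map_sum, Fintype.sum_eq_add_sum_subtype_ne _ s]
    simp only [b', hε', map_smul, hL, smul_zero, zero_add]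
  let Y : Subgroup ((V ⧸ L) ≃ₗ[F] (V ⧸ L)) :=
    { carrier := {y' | ∃ y ∈ X, ∀ x, y' (L.mkQ x) = L.mkQ (y x)}
      mul_mem' := fun ⟨y, hy, hy'⟩ ⟨z, hz, hz'⟩ => ⟨y * z, X.mul_mem hy hz, fun x => by
        rw [LinearEquiv.mul_apply, hz', hy', LinearEquiv.mul_apply]⟩
      one_mem' := ⟨1, X.one_mem, fun _ => rfl⟩
      inv_mem' := fun {y'} ⟨y, hy, hy'⟩ => ⟨y⁻¹, X.inv_mem hy, fun x => y'.injective (by
        rw [apply_inv_apply, hy', apply_inv_apply])⟩ }
  have toY : ∀ y ∈ X, ∀ (u : V) (ψ : Dual F (V ⧸ L)) (ρ : V → F), 1 + ψ (L.mkQ u) ≠ 0 →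
      (∀ x, y x = x + ψ (L.mkQ x) • u + ρ x • b s) → HasTv Y (L.mkQ u) ψ := by
    intro y hy u ψ ρ h1 h2
    obtain ⟨k, -, hk⟩ := exists_dilat h1
    exact ⟨k, ⟨y, hy, fun x => by simp only [hk, h2 x, map_add, map_smul, hL, smul_zero, add_zero]⟩,
      hk⟩
  have hP : ∀ i, Hom Y (b' i) (ε' i) := fun i => ⟨hFr.self i, fun c hc => by
    obtain ⟨d, hd, hd'⟩ := h.dg i.2 hc
    exact toY d hd _ _ _ (by simp [-Submodule.mkQ_apply, hε', h.self, hc]) fun x => by
      rw [hd', LinearMap.smul_apply, hε', smul_eq_mul]⟩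
  have hS : ∀ i j, i ≠ j → HasTv Y (b' i - b' j) (ε' j - ε' i) := fun i j hij => by
    have hij' := Subtype.val_injective.ne hij
    obtain ⟨d, hd, hd'⟩ := h.sw hij' i.2 j.2
    rw [← map_sub]
    exact toY d hd _ _ _ (by
      simp only [LinearMap.sub_apply, hε', map_sub (ε _), h.self, h.ne hij', h.ne hij'.symm]
      norm_num) fun x => by rw [hd', LinearMap.sub_apply, hε', hε']
  have hRY : ¬ Root b' ε' Y := fun ⟨i, j, hij, c, hc, y', ⟨y, hy, hy'⟩, h1⟩ =>
    hR (h.root_of_mod (Subtype.val_injective.ne hij) i.2 j.2 hc hy fun x k hk => by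
      rw [← hε' ⟨k, hk⟩, ← hy', h1, ← hε' ⟨k, hk⟩, map_add L.mkQ, map_smul, LinearMap.smul_apply, hε',
        smul_eq_mul c])
  obtain ⟨i, hi⟩ := not_forall.1 hm
  push Not at hi
  have his : i ≠ s := by rintro rfl; exact hi _ _ hs
  obtain ⟨ψ, hψ⟩ := dn (ε i ∘ₗ (g.symm : V →ₗ[F] V)) (by simp [hs', h.ne his])
  have hy : ∀ c, c ≠ 0 → ∃ y ∈ X, ∀ x, y x = x + ((c - 1) * ε i (g.symm x)) • g (b i) +
      ((c⁻¹ - 1) * ε s (g.symm x) * κ) • b s := fun c hc => by
    obtain ⟨d, hd, hd'⟩ := h.dg his hc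
    exact ⟨g * d * g⁻¹, X.mul_mem (X.mul_mem hg hd) (X.inv_mem hg), fun x => by
      simp [hd', hs, smul_smul]⟩
  have H : Hom Y (L.mkQ (g (b i))) ψ := ⟨by simp [-Submodule.mkQ_apply, hψ, h.self], fun c hc => by
    obtain ⟨y, y1, y2⟩ := hy c hc
    exact toY y y1 _ _ _ (by simp [-Submodule.mkQ_apply, hψ, h.self, hc]) fun x => by
      rw [y2, LinearMap.smul_apply, hψ]; rfl⟩
  obtain ⟨j, hjs, hj⟩ : ∃ j, j ≠ s ∧ ε j (g (b i)) ≠ 0 := by
    by_contra hc; push Not at hc; exact hi _ _ (h.eq_smul hc)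
  have h1 : ∀ k, k ≠ s → k ≠ j → ε k (g (b i)) = 0 := fun k ks kj => by
    by_contra hk
    obtain ⟨l, lk, lj, ls, -⟩ := exists_ne_three h.four k j s
    exact H.false hFr h.five hP hRY hS (a := ⟨k, ks⟩) (a' := ⟨j, hjs⟩) (c := ⟨l, ls⟩)
      (by simpa) (by simpa using lk.symm) (by simpa using lj.symm) (by rwa [hε']) (by rwa [hε'])
  have h2 : ε s (g (b i)) ≠ 0 := fun h0 => hi _ _ (h.eq_smul (j := j) fun k hk => by
    by_cases ks : k = s
    · exact ks ▸ h0
    · exact h1 k ks hk)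
  have h3 : ∀ x, ε i (g.symm x) = ε i (g.symm (b j)) * ε j x :=
    h.ext' (φ := ε i ∘ₗ (g.symm : V →ₗ[F] V)) (ψ := ε i (g.symm (b j)) • ε j) fun k => by
      by_cases kj : k = j
      · simp [kj, h.self]
      by_cases ks : k = s
      · simp [ks, hs', h.ne his, h.ne hjs]
      have := (H.bal hFr h.five hP hRY ⟨k, ks⟩).1 (by rw [hε']; exact h1 k ks kj)
      rw [hψ] at this
      simpa [h.ne (Ne.symm kj)] using this
  have h4 : ε i (g.symm (b j)) * ε j (g (b i)) = 1 := by rw [← h3]; simp [h.self]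
  obtain ⟨μ, m0, m1, m2, -⟩ := h.five 0 1 (-1) 0
  obtain ⟨y, y1, y2⟩ := hy μ m0
  obtain ⟨d, d1, d2⟩ := h.dg hjs m0
  have := congrArg (ε s) (h.lift hR y1 d1 (s := s) (κ := μ⁻¹) (fun x k hk => by
      simp only [y2, d2, map_add, map_smul, h.ne hk, smul_eq_mul, h3 x]
      by_cases kj : k = j
      · rw [kj, h.self]; linear_combination (μ - 1) * ε j x * h4
      · rw [h1 k hk kj, h.ne kj]; ring)
    (by simp [y2, d2, hs', h.ne his, h.ne hjs, h.self, hκ])
    (by simp [d2, h.ne hjs, h.self, sub_smul]) (g (b i)))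
  simp only [y2, d2, map_add, map_smul, LinearEquiv.symm_apply_apply, h.self, h.ne his.symm,
    h.ne hjs.symm, smul_eq_mul] at this
  field_simp at this
  exact mul_ne_zero h2 (mul_ne_zero (sub_ne_zero.2 m1) (sub_ne_zero.2 m2))
    (by linear_combination this)

theorem mono_of_col (hR : ¬ Root b ε X) {g : V ≃ₗ[F] V} (hg : g ∈ X) {i j : τ} {c : F}
    (hc : g (b i) = c • b j) : IsMono b g := by
  by_contra hm
  by_cases hij : i = j
  · exact hR (h.root_of_fix hg hm (hij ▸ hc))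
  obtain ⟨s, si, sj, -⟩ := exists_ne_three h.four i j i
  obtain ⟨d, hd, hd'⟩ := h.sw hij si.symm sj.symm
  have hdd : ∀ x, d (d x) = x := h.ext' (φ := (d : V →ₗ[F] V) ∘ₗ d) (ψ := LinearMap.id) fun k => by
    simp only [LinearMap.comp_apply, LinearEquiv.coe_coe, hd', map_add, map_smul, map_sub, h.self,
      h.ne hij, h.ne (Ne.symm hij), h.ne si, h.ne sj, h.ne si.symm, h.ne sj.symm,
      LinearMap.id_apply]
    module
  refine hR (h.root_of_fix (X.mul_mem hg hd) (s := j) (κ := c) (fun hm' => hm fun k => ?_)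
    (by simp [hd', h.self, h.ne hij, h.ne sj, hc]))
  obtain ⟨l, a, hl⟩ : ∃ l, ∃ a : F, d (b k) = a • b l := by
    by_cases h3 : i = k
    · subst h3; exact ⟨j, 1, by simp [hd', h.self, h.ne (Ne.symm hij), h.ne si]⟩
    by_cases h4 : j = k
    · subst h4; exact ⟨i, 1, by simp [hd', h.self, h.ne hij, h.ne sj]⟩
    by_cases h5 : s = k
    · subst h5; exact ⟨s, -1, by simp [hd', h.self, h.ne si.symm, h.ne sj.symm]; module⟩
    · exact ⟨k, 1, by simp [hd', h.ne h3, h.ne h4, h.ne h5]⟩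
  obtain ⟨l', a', hl'⟩ := hm' l
  exact ⟨l', a * a', by rw [← hdd (b k), hl, map_smul, map_smul, mul_smul, ← hl']; rfl⟩

end Ov4

end gen

section four

variable {b : Fin 4 → V} {ε : Fin 4 → Dual F V} {X : Subgroup (V ≃ₗ[F] V)}

theorem fr_basis (h : Fr b ε) : ∃ B : Basis (Fin 4) F V, (∀ i, B i = b i) ∧
    ∀ x i, B.repr x i = ε i x := by
  have h1 : LinearIndependent F b := Fintype.linearIndependent_iff.2 fun c hc i => by
    have := congrArg (ε i) hc
    rw [map_sum, Finset.sum_eq_single i (fun j _ hj => by simp [h.ne hj.symm]) (by simp)] at this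
    simpa [h.self] using this
  have h2 : ⊤ ≤ Submodule.span F (Set.range b) := fun x _ => by
    rw [← h.sum x]
    exact Submodule.sum_mem _ fun i _ => Submodule.smul_mem _ _ (Submodule.subset_span ⟨i, rfl⟩)
  refine ⟨Basis.mk h1 h2, by simp, fun x i => h.ext' (φ := (Basis.mk h1 h2).coord i) (fun j => ?_) x⟩
  by_cases hj : j = i
  · rw [hj, Basis.mk_coord_apply_eq, h.self]
  · rw [Basis.mk_coord_apply_ne hj, h.ne (Ne.symm hj)]

theorem fr_det (h : Fr b ε) (g : V →ₗ[F] V) :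
    LinearMap.det g = Matrix.det (Matrix.of fun i j => ε i (g (b j))) := by
  obtain ⟨B, h1, h2⟩ := fr_basis h
  rw [← LinearMap.det_toMatrix B]
  congr 1
  ext i j
  simp [LinearMap.toMatrix_apply, h1, h2]

theorem fr_finrank (h : Fr b ε) : finrank F V = 4 := by
  obtain ⟨B, -⟩ := fr_basis h
  simpa using finrank_eq_card_basis B

theorem Dia.det (h : Fr b ε) {g : V ≃ₗ[F] V} {s : Fin 4 → F} (hg : Dia b g s) :
    LinearMap.det (g : V →ₗ[F] V) = ∏ i, s i := by
  rw [fr_det h, ← Matrix.det_diagonal]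
  congr 1
  ext i j
  by_cases hij : i = j
  · simp [hij, hg j, h.self]
  · simp [hij, hg j, h.ne hij]

theorem det_sw (h : Fr b ε) {v : V ≃ₗ[F] V} (v0 : v (b 0) = b 1) (v1 : v (b 1) = b 0)
    (v2 : v (b 2) = b 3) (v3 : v (b 3) = b 2) : v ∈ SLV F V := by
  rw [mem_SLV, fr_det h]
  simp [Matrix.det_succ_row_zero, Fin.sum_univ_succ, v0, v1, v2, v3, h.self, h.ne,
    Fin.succAbove]

/-- scalar multiples of the elements of `X` -/
def hat (X : Subgroup (V ≃ₗ[F] V)) : Subgroup (V ≃ₗ[F] V) where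
  carrier := {y | ∃ c : F, c ≠ 0 ∧ ∃ x ∈ X, ∀ v, y v = c • x v}
  mul_mem' := by
    rintro y y' ⟨c, hc, x, hx, e⟩ ⟨c', hc', x', hx', e'⟩
    exact ⟨c * c', mul_ne_zero hc hc', x * x', X.mul_mem hx hx', fun v => by
      simp [e, e', smul_smul]⟩
  one_mem' := ⟨1, one_ne_zero, 1, X.one_mem, by simp⟩
  inv_mem' := by
    rintro y ⟨c, hc, x, hx, e⟩
    exact ⟨c⁻¹, inv_ne_zero hc, x⁻¹, X.inv_mem hx, fun v => y.injective (by
      rw [apply_inv_apply, e, map_smul, apply_inv_apply, smul_inv_smul₀ hc])⟩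

theorem le_hat : X ≤ hat X := fun x hx => ⟨1, one_ne_zero, x, hx, by simp⟩

theorem det_of_smul (h4 : finrank F V = 4) {y x : V ≃ₗ[F] V} {c : F} (e : ∀ v, y v = c • x v) :
    LinearMap.det (y : V →ₗ[F] V) = c ^ 4 * LinearMap.det (x : V →ₗ[F] V) := by
  have : Module.Finite F V := Module.finite_of_finrank_pos (by omega)
  rw [show (y : V →ₗ[F] V) = c • (x : V →ₗ[F] V) from LinearMap.ext e, LinearMap.det_smul, h4]

theorem eq_one_of_four (h2 : (2 : F) = 0) {c : F} (h : c ^ 4 = 1) : c = 1 :=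
  sub_eq_zero.1 (pow_eq_zero_iff (n := 4) (by norm_num) |>.1 (by
    linear_combination h + (-2 * c ^ 3 + 3 * c ^ 2 - 2 * c + 1) * h2))

theorem mem_of_hat (h2 : (2 : F) = 0) (h4 : finrank F V = 4) (hX : X ≤ SLV F V) {y : V ≃ₗ[F] V}
    (hy : y ∈ hat X) (hy' : y ∈ SLV F V) : y ∈ X := by
  obtain ⟨c, -, x, hx, e⟩ := hy
  have := det_of_smul h4 e
  rw [mem_SLV.1 hy', mem_SLV.1 (hX hx), mul_one] at this
  rw [eq_one_of_four h2 this.symm] at e
  rwa [show y = x from LinearEquiv.ext (by simpa using e)]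

theorem exists_scal [Finite F] (h2 : (2 : F) = 0) (h4 : finrank F V = 4) (y : V ≃ₗ[F] V) :
    ∃ c : F, c ≠ 0 ∧ c ^ 4 = LinearMap.det (y : V →ₗ[F] V) ∧ ∃ x ∈ SLV F V, ∀ v, y v = c • x v := by
  obtain ⟨c, hc⟩ : ∃ c : F, c ^ 4 = LinearMap.det (y : V →ₗ[F] V) :=
    Finite.surjective_of_injective (f := fun c : F => c ^ 4) (fun c d (e : c ^ 4 = d ^ 4) =>
      sub_eq_zero.1 (pow_eq_zero_iff (n := 4) (by norm_num) |>.1 (by
        linear_combination e + (-2 * c ^ 3 * d + 3 * c ^ 2 * d ^ 2 - 2 * c * d ^ 3 + d ^ 4) * h2))) _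
  have c0 : c ≠ 0 := by
    rintro rfl
    exact (LinearEquiv.isUnit_det' y).ne_zero (by simpa using hc.symm)
  have e : ∀ v, y v = c • (y.trans (LinearEquiv.smulOfNeZero F V c⁻¹ (inv_ne_zero c0))) v :=
    fun v => by simp [smul_smul, c0]
  refine ⟨c, c0, hc, _, mem_SLV.2 (mul_left_cancel₀ (pow_ne_zero 4 c0) ?_), e⟩
  rw [← det_of_smul h4 e, mul_one, hc]

theorem Ov4.root [Finite F] [Finite V] [FiniteDimensional F V] (h : Ov4 b ε X)
    (ha : (2 : F) ≠ 0 → ∃ a : F, a ≠ 0 ∧ a ^ 4 ≠ 1) {g : V ≃ₗ[F] V} (hg : g ∈ X)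
    (hm : ¬ IsMono b g) : Root b ε X := by
  by_contra hR
  obtain ⟨B, hB, -⟩ := fr_basis h.toFr
  by_cases h2 : (2 : F) = 0
  · have h4 := fr_finrank h.toFr
    have hM : ∀ y : V ≃ₗ[F] V, IsMono b y → y ∈ hat X := fun y hy => by
      obtain ⟨c, c0, -, x, hx, e⟩ := exists_scal h2 h4 y
      refine ⟨c, c0, x, h.mem x hx fun i => ?_, e⟩
      obtain ⟨j, d, hd⟩ := hy i
      exact ⟨j, c⁻¹ * d, by rw [mul_smul, ← hd, e, inv_smul_smul₀ c0]⟩
    have hP : ∀ i, Hom (hat X) (b i) (ε i) := fun i => ⟨h.self i, fun c hc => by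
      obtain ⟨k, -, hk⟩ := exists_dilat (u := b i) (ψ := (c - 1) • ε i) (by simp [h.self, hc])
      refine ⟨k, hM k fun j => ⟨j, ?_⟩, hk⟩
      by_cases hj : i = j
      · subst hj; exact ⟨c, by simp [hk, h.self, sub_smul]⟩
      · exact ⟨1, by simp [hk, h.ne hj]⟩⟩
    have hS : ∀ i j, i ≠ j → HasTv (hat X) (b i - b j) (ε j - ε i) := fun i j hij => by
      obtain ⟨s, si, sj, -⟩ := exists_ne_three h.four i j i
      obtain ⟨d, hd, hd'⟩ := h.sw hij si.symm sj.symm
      exact ⟨d, le_hat hd, fun x => by simp [hd', h2]⟩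
    have hRY : ¬ Root b ε (hat X) := fun ⟨i, j, hij, c, hc, y, hy, e⟩ => by
      obtain ⟨k, hk, hk'⟩ := hasTv_SLV (v := b i) (φ := c • ε j) (by simp [h.ne hij.symm])
      obtain rfl : y = k := LinearEquiv.ext fun x => by rw [e, hk']
      exact hR ⟨i, j, hij, c, hc, y, mem_of_hat h2 h4 h.le hy hk, e⟩
    refine hm fun i => ?_
    have H := (hP i).conj' (φ' := ε i ∘ₗ (g.symm : V →ₗ[F] V)) (le_hat hg) (by simp)
    obtain ⟨j, hj⟩ := h.exists_ne' (x := g (b i)) fun h0 => by simpa [h0] using H.1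
    refine ⟨j, _, h.eq_smul fun k hk => ?_⟩
    by_contra hk'
    obtain ⟨l, lk, lj, -⟩ := exists_ne_three h.four k j k
    exact H.false h.toFr h.five hP hRY hS hk lk.symm lj.symm hk' hj
  obtain ⟨a, a0, a4⟩ := ha h2
  refine hm (Rig.mono (ε := ε) (a := a) ⟨h.toFr, h2, a0, a4, fun s hs hp => ?_,
    fun k hk s hs => by rw [← hs.det h.toFr, mem_SLV.1 (h.le hk)], ?_,
    fun k hk i j c e => h.mono_of_col hR hk e⟩ hg)
  · have s0 : ∀ i, s i ≠ 0 := fun i => Finset.prod_ne_zero_iff.1 (hp ▸ one_ne_zero) i (by simp)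
    have H : Dia b (B.equiv (B.unitsSMul fun i => Units.mk0 _ (s0 i)) (Equiv.refl _)) s :=
      fun i => by rw [← hB, Basis.equiv_apply, Basis.unitsSMul_apply]; rfl
    exact ⟨_, h.mem _ (mem_SLV.2 (by rw [H.det h.toFr, hp])) fun i => ⟨i, _, H i⟩, H⟩
  · have H : ∀ i, B.equiv B (Equiv.swap 0 1 * Equiv.swap 2 3) (b i) =
        b ((Equiv.swap 0 1 * Equiv.swap 2 3 : Equiv.Perm (Fin 4)) i) := fun i => by
      rw [← hB, Basis.equiv_apply, hB]
    exact ⟨_, h.mem _ (det_sw h.toFr (H 0) (H 1) (H 2) (H 3)) fun i => ⟨_, 1, by rw [H, one_smul]⟩,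
      H 0, H 1, H 2, H 3⟩

end four

theorem exists_pow_four_ne {F : Type*} [Field F] (s : Finset F) (h : 4 < s.card) :
    ∃ a ∈ s, a ^ 4 ≠ 1 := by
  classical
  by_contra h0
  push Not at h0
  have := Finset.card_le_card (s := s) (t := (Polynomial.nthRoots 4 (1 : F)).toFinset)
    fun a ha => by simpa using h0 a ha
  have h1 := (Multiset.toFinset_card_le _).trans (Polynomial.card_nthRoots 4 (1 : F))
  omega

/-- The monomial group is maximal in `SL_4(q)`, `q ≥ 7`. -/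
theorem sl4_mono {F : Type*} [Field F] [Fintype F] (h7 : 7 ≤ Fintype.card F)
    {D : Fin 4 → Submodule F (Fin 4 → F)} (hD : IsMDecomposition 1 D) :
    IsMaximalIn (specialLinear (Fin 4) F) (decompositionStabilizer D ⊓ specialLinear (Fin 4) F) := by
  classical
  rw [specialLinear_eq, decompositionStabilizer_eq, ← Subgroup.comap_inf]
  refine isMaximalIn_comap _ ?_
  have hF : Five F := fun a b c d => by
    obtain ⟨k, -, hk⟩ := Finset.exists_mem_notMem_of_card_lt_card (s := {a, b, c, d})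
      (t := Finset.univ) (by
        have := Finset.card_le_four (a := a) (b := b) (c := c) (d := d)
        rw [Finset.card_univ]; omega)
    exact ⟨k, by simpa [not_or] using hk⟩
  have h1 := hD.indep
  have h2 := hD.iSup_eq_top
  have h3 := hD.finrank_eq
  refine isMaximalIn_of inf_le_right (not_SLV_le_decompV (by omega) one_pos h1 h2 h3)
    fun X hHX hX g hg hgH => ?_
  obtain ⟨b, e, h, hD, he⟩ := exists_basis_of_decomp h1 h2 h3
  have he' : ∀ j x, e j x = b.coord (j, 0) x • b (j, 0) := fun j x => by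
    have : e j = (b.coord (j, 0)).smulRight (b (j, 0)) := b.ext fun ⟨i, a⟩ => by
      obtain rfl : a = 0 := Subsingleton.elim _ _
      by_cases hi : i = j
      · simp [he, hi]
      · simp [he, hi, Ne.symm hi]
    rw [this]; rfl
  have hmono : ∀ k : (Fin 4 → F) ≃ₗ[F] (Fin 4 → F), IsMono (fun j => b (j, 0)) k →
      k ∈ decompV D := fun k hk => by
    by_contra hk'
    obtain ⟨i, u, hu, hu'⟩ := exists_of_notMem_decompV h hD one_pos h3 hk'
    obtain ⟨j, c, hc⟩ := hk i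
    exact hu' j (by rw [← hu, he' i, map_smul, hc]; simp [he])
  have hO : Ov4 (fun j => b (j, 0)) (fun j => b.coord (j, 0)) X :=
    ⟨⟨fun i => by simp, fun hij => by simp [hij], fun x => by simpa [he'] using h.sum x⟩, hF,
      by simp, fun k hk hk' => hHX ⟨hmono k hk', hk⟩, hX⟩
  refine hO.SLV_le (hO.root (fun _ => ?_) hg fun hm => hgH ⟨hmono g hm, hX hg⟩)
  obtain ⟨a, ha, ha'⟩ := exists_pow_four_ne (Finset.univ.erase (0 : F)) (by
    rw [Finset.card_erase_of_mem (by simp), Finset.card_univ]; omega)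
  exact ⟨a, by simpa using ha, ha'⟩

end CfsgLib.Low4
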