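import Mathlib
import Cfsg.Agent.Lib.Low4.SLMono4
import Cfsg.Agent.Lib.SUMax.Low2

/-! The stabiliser of an orthonormal frame is maximal in `SU_4(q)` for `q ≠ 3`. -/

set_option autoImplicit false

namespace CfsgLib.Low4

open CfsgLib.Forms CfsgLib.Unitary CfsgLib.ClMax CfsgLib.RootMax CfsgLib.SUMax Module

variable {F : Type*} [Field F] {σ : F →+* F} {V : Type*} [AddCommGroup V] [Module F V]
  {P : PQ σ V} {X : Subgroup (V ≃ₗ[F] V)} {e : Fin 4 → V}

section frame

variable (h : Frame P e) [FiniteDimensional F V] (hH : P.IsHerm) (hP : P.Nondeg)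
include h hH hP

theorem tfOn_two4 (hX : X ≤ P.isom) (hμ : MuData σ)
    (hM : ∀ g : V ≃ₗ[F] V, P.IsIso g → Mon e g → g ∈ X)
    (hq : ∀ c, σ c = c → c = 0 ∨ c = 1) {g : V ≃ₗ[F] V} (hg : g ∈ X) (hg' : ¬ Mon e g) :
    TFOn P X ⊤ := by
  classical
  have h2 := two_eq_zero_of hq
  have sw := fun {a b : Fin 4} (hab : a ≠ b) {c : F} (hc : σ c * c = 1) =>
    h.tv_swap hH h2 (fun g hg => hM g hg.1) hab hc
  have hN : ∀ {c : F}, c ≠ 0 → σ c * c = 1 := fun hc => (hq _ (by
    rw [map_mul, P.σσ, mul_comm])).resolve_left (mul_ne_zero ((map_ne_zero σ).2 hc) hc)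
  have pair : ∀ a b, a ≠ b → TFOn P X (Submodule.span F (e '' {a, b})) := fun a b hab =>
    h.tfOn_pair hab fun p r hn => h.tf_pairs hH hP hM hab one_ne_zero (r := 1)
      (by simp only [map_one]; linear_combination h2)
      (by simpa using tf_of_tv_one hq (sw hab (c := 1) (by simp)).2) hab hn
  obtain ⟨i, hi⟩ := not_forall.1 hg'
  have hom := (h.om hH hP hM i).conj hg (hX hg)
  have hc : P.B (g (e i)) (g (e i)) = 1 := by rw [(hX hg).B_eq, h.unit]
  generalize g (e i) = c at hi hom hc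
  obtain ⟨d, hd⟩ : ∃ d, ∀ l, P.B (e l) c = 0 ↔ l = d := by
    have h3 : ((Finset.univ.filter fun l => P.B (e l) c ≠ 0).card : F) = 1 := by
      refine Eq.trans ?_ hc
      rw [h.B_eq, Finset.card_filter]
      push_cast
      refine Finset.sum_congr rfl fun l _ => ?_
      by_cases hl : P.B (e l) c = 0
      · simp [hl]
      · rw [if_pos hl, ← hH.conj, hN hl]
    obtain ⟨a, -, ha⟩ := h.exists_two hi 0
    obtain ⟨b, hba, hb⟩ := h.exists_two hi a
    have h4 : 1 < (Finset.univ.filter fun l => P.B (e l) c ≠ 0).card :=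
      Finset.one_lt_card_iff.2 ⟨b, a, by simpa using hb, by simpa using ha, hba⟩
    have h5 := Finset.card_add_card_compl (Finset.univ.filter fun l => P.B (e l) c ≠ 0)
    rw [Fintype.card_fin] at h5
    obtain ⟨d, hd⟩ := Finset.card_eq_one.1
      (show (Finset.univ.filter fun l => P.B (e l) c ≠ 0)ᶜ.card = 1 by
        by_contra h0
        rcases show (Finset.univ.filter fun l => P.B (e l) c ≠ 0).card = 2 ∨
          (Finset.univ.filter fun l => P.B (e l) c ≠ 0).card = 4 by omega with h6 | h6 <;>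
          rw [h6] at h3
        · exact one_ne_zero (α := F) (by push_cast at h3; linear_combination h2 - h3)
        · exact one_ne_zero (α := F) (by push_cast at h3; linear_combination 2 * h2 - h3))
    exact ⟨d, fun l => by simpa using Finset.ext_iff.1 hd l⟩
  obtain ⟨a, had⟩ := exists_ne d
  obtain ⟨ω, hω, hω'⟩ := hμ.three
  have hω1 : ω - 1 ≠ 0 := fun h0 => hω' (by rw [sub_eq_zero.1 h0, map_one])
  obtain ⟨k, hk, e1⟩ := hom ω hω
  have hT := (tf_of_tv_one hq (sw had (c := 1) (by simp)).2).conj hk (hX hk)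
  have ha : P.B (e a) c ≠ 0 := mt (hd a).1 had
  have hy : ∀ l, P.B (e l) (k (e a + (1 : F) • e d)) ≠ 0 := fun l => by
    rw [e1]
    simp only [one_smul, P.B_add_right, P.B_smul_right, ← hH.conj (e a) c,
      P.B_eq_zero_comm.1 ((hd d).2 rfl), add_zero]
    by_cases h1 : l = d
    · simp [h1, (hd d).2 rfl, h.unit, h.orth had.symm]
    by_cases h3 : l = a
    · rw [h3, h.unit, h.orth had, mul_assoc, hN ha]
      simpa using right_ne_zero_of_mul_eq_one hω
    · simp [h.orth h1, h.orth h3, hω1, ha, mt (hd l).1 h1]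
  intro x _ hxx
  have h3 := h.even_supp hH hq hxx
  have h5 : (Finset.univ.filter fun l => P.B (e l) x ≠ 0).card ≤ 4 := by
    simpa using Finset.card_le_univ (Finset.univ.filter fun l => P.B (e l) x ≠ 0)
  have h6 : ∀ l, P.B (e l) x = 0 ↔ l ∉ Finset.univ.filter fun l => P.B (e l) x ≠ 0 := by simp
  generalize (Finset.univ.filter fun l => P.B (e l) x ≠ 0) = S at h3 h5 h6
  rcases show S.card = 0 ∨ S.card = 2 ∨ S.card = 4 by omega with h7 | h7 | h7
  · rw [h.span x fun l => by simp [h6, Finset.card_eq_zero.1 h7]]; exact tf_zero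
  · obtain ⟨i, j, hij, rfl⟩ := Finset.card_eq_two.1 h7
    exact pair i j hij x (h.mem_span.2 fun l hl => (h6 l).2 (by simpa using hl)) hxx
  · obtain rfl := Finset.eq_univ_of_card S (by simpa using h7)
    obtain ⟨m, hm, hi, e2⟩ := h.exists_of_norm hH hP hM (x := x)
      (y := k (e a + (1 : F) • e d)) fun l => by
        rw [hN (hy l), hN (mt (h6 l).1 (by simp))]
    exact e2 ▸ hT.conj hm hi

theorem tfOn_frame4 [Finite F] (hD : ∀ g ∈ SUV P, Mon e g → g ∈ X) (hμ : MuData σ)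
    (ha : (2 : F) ≠ 0 → ∃ a, σ a * a = 1 ∧ a ^ 4 ≠ 1) (hX : X ≤ SUV P) {g : V ≃ₗ[F] V}
    (hg : g ∈ X) (hg' : ¬ Mon e g) : TFOn P X ⊤ := by
  classical
  have hFr : Mono.Fr e fun i => P.B (e i) := ⟨h.unit, h.orth, fun x => (h.sum_eq x).symm⟩
  have fin : ∀ Y : Subgroup (V ≃ₗ[F] V), Y ≤ P.isom →
      (∀ g : V ≃ₗ[F] V, P.IsIso g → Mon e g → g ∈ Y) → (∀ g ∈ Y, g ∈ SLV F V → g ∈ X) →
      ∀ m ∈ Y, ¬ Mon e m → TFOn P X ⊤ := fun Y h3 h4 h6 m hm hm' => by
    have h7 : TFOn P Y ⊤ := by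
      by_cases hq : ∀ c, σ c = c → c = 0 ∨ c = 1
      · exact tfOn_two4 h hH hP h3 hμ h4 hq hm hm'
      · push Not at hq
        obtain ⟨a, ha, ha0, ha1⟩ := hq
        exact h.tfOn_top_of_ne hH hP h3 hμ h4 (by simp) ha ha0 ha1 hm hm'
    intro x _ hx d hd
    obtain ⟨t, ht, e1⟩ := h7 x trivial hx d hd
    obtain ⟨t', ht', e2⟩ := exists_tv_SUV hH hx hd
    obtain rfl : t = t' := LinearEquiv.ext fun v => by rw [e1, e2]
    exact ⟨t, h6 t ht ht'.2, e1⟩
  by_cases h2 : (2 : F) = 0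
  · have h4 := fr_finrank hFr
    refine fin (hat X ⊓ P.isom) inf_le_right (fun y hy hy' => ⟨?_, hy⟩)
      (fun y hy => mem_of_hat h2 h4 (fun x hx => (hX hx).2) hy.1) g ⟨le_hat hg, (hX hg).1⟩ hg'
    obtain ⟨c, c0, hc, x, hx, e1⟩ := exists_scal h2 h4 y
    have h5 : σ c * c = 1 := eq_one_of_four h2 (by
      rw [mul_pow, ← map_pow, hc]; exact Unitary.conj_det_mul_det hP hy)
    have e2 : ∀ v, x v = c⁻¹ • y v := fun v => by rw [e1, inv_smul_smul₀ c0]
    refine ⟨c, c0, x, hD x ⟨(hH.isIso_iff _).2 fun u v => ?_, hx⟩ fun i => ?_, e1⟩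
    · rw [← hy.B_eq u v, e1, e1, P.B_smul_left, P.B_smul_right, ← mul_assoc, h5, one_mul]
    · obtain ⟨j, d, hd⟩ := hy' i
      exact ⟨j, c⁻¹ * d, by rw [e2, hd, mul_smul]⟩
  obtain ⟨k, hk, i, j, c, hc, hk'⟩ : ∃ k ∈ X, ∃ i j, ∃ c : F, k (e i) = c • e j ∧ ¬ Mon e k := by
    by_contra hst
    push Not at hst
    obtain ⟨a, a1, a4⟩ := ha h2
    have a0 := right_ne_zero_of_mul_eq_one a1
    have : Finite V := Module.finite_of_finite F
    refine hg' (Rig.mono (ε := fun i => P.B (e i)) (a := a) ⟨hFr, h2, a0, a4, fun s hs hp => ?_,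
      fun k hk s hs => by rw [← hs.det hFr, mem_SLV.1 (hX hk).2], ?_, hst⟩ hg)
    · obtain ⟨k, k1, k2, k3⟩ := h.exists_dg hH hP s (fun i => by
        rcases hs i with e | e | e | e <;> rw [e]
        · simp
        · simp
        · exact a1
        · rw [map_inv₀, ← mul_inv, a1, inv_one]) Finset.univ
      refine ⟨k, hD k ⟨k1, mem_SLV.2 (k2.trans hp)⟩ (h.mon_of_dg k3), fun i => h.ext fun l => ?_⟩
      rw [k3]
      by_cases hl : l = i
      · simp [hl]
      · simp [h.orth hl]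
    · obtain ⟨τ, t1, t2, t3, t4, t5⟩ := h.exists_swap hH hP (i := 0) (j := 1) (by decide)
      obtain ⟨ρ, r1, r2, r3, r4, r5⟩ := h.exists_swap hH hP (i := 2) (j := 3) (by decide)
      have v0 : (τ * ρ) (e 0) = e 1 := by
        rw [LinearEquiv.mul_apply, r5 0 (by decide) (by decide), t3]
      have v1 : (τ * ρ) (e 1) = e 0 := by
        rw [LinearEquiv.mul_apply, r5 1 (by decide) (by decide), t4]
      have v2 : (τ * ρ) (e 2) = e 3 := by
        rw [LinearEquiv.mul_apply, r3, t5 3 (by decide) (by decide)]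
      have v3 : (τ * ρ) (e 3) = e 2 := by
        rw [LinearEquiv.mul_apply, r4, t5 2 (by decide) (by decide)]
      exact ⟨τ * ρ, hD _ ⟨t1.comp r1, det_sw hFr v0 v1 v2 v3⟩ (t2.mul r2), v0, v1, v2, v3⟩
  obtain ⟨m, hm, c, hc, hm'⟩ : ∃ m ∈ X, ∃ c : F, m (e i) = c • e i ∧ ¬ Mon e m := by
    by_cases hij : j = i
    · exact ⟨k, hk, c, hij ▸ hc, hk'⟩
    obtain ⟨s, hs, hs', s1, -⟩ := h.odec.exists_swap hH hP hij
    obtain ⟨d, hd⟩ := Submodule.mem_span_singleton.1 (s1 _ (Submodule.mem_span_singleton_self _))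
    refine ⟨s * k, X.mul_mem (hD s hs (Frame.mon_of_permD hs')) hk, c * d, ?_, fun h0 => hk' ?_⟩
    · rw [LinearEquiv.mul_apply, hc, map_smul, ← hd, smul_smul]
    · simpa using (h.mon_inv (Frame.mon_of_permD hs')).mul h0
  obtain ⟨Y, h3, h4, h5, h6⟩ := h.exists_hat hH hP hX hD i
  exact fin Y h3 h4 h6 m (h5 m hm c hc) hm'

end frame

/-- Maximality of the stabiliser of an orthonormal frame in `SU_4(q)`, `q ≠ 3`. -/
theorem su4_frame [Fintype F] {q : ℕ} (hF : Fintype.card F = q ^ 2) (hq : q ≠ 3)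
    (D : Fin 4 → Submodule F (Fin 4 → F))
    (hD : Cfsg.Geo.IsNondegenerateMDecomposition (Cfsg.hermForm 4 F q) 1 D) :
    Cfsg.Geo.IsMaximalIn (Cfsg.GU 4 F q ⊓ Cfsg.Geo.specialLinear (Fin 4) F)
      (Cfsg.Geo.decompositionStabilizer D ⊓ (Cfsg.GU 4 F q ⊓ Cfsg.Geo.specialLinear (Fin 4) F)) := by
  classical
  have hH := uPQ_isHerm hF 4
  have hP := uPQ_nondeg hF 4
  refine isMaximalIn_su_dec hF le_rfl D hD fun hO X hX hM g hg hg' => ?_
  choose e he he' using hO.exists_unit hH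
  have h2 : ∀ i, D i = Submodule.span F {e i} := fun i => (Submodule.eq_of_le_of_finrank_eq
    ((Submodule.span_singleton_le_iff_mem _ _).2 (he i))
    (by rw [hO.dim, finrank_span_singleton (fun h0 => by simpa [h0] using he' i)])).symm
  have hf : Frame (uPQ hF 4) e := ⟨he', fun hij => hO.orth _ _ hij (he _) _ (he _),
    fun v hv => hO.eq_zero hP fun i => by rw [h2]; exact (uPQ hF 4).mem_perp_span_singleton.2 (hv i)⟩
  have h4 : ∀ g, Mon e g → PermD D g := fun g hg => hO.exists_perm fun i => by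
    obtain ⟨j, c, hc⟩ := hg i
    refine ⟨j, fun v hv => ?_⟩
    rw [h2] at hv
    obtain ⟨d, rfl⟩ := Submodule.mem_span_singleton.1 hv
    rw [map_smul, hc]
    exact (D j).smul_mem _ ((D j).smul_mem _ (he j))
  refine tfOn_frame4 hf hH hP (fun g hg hg' => hM g hg (h4 g hg')) (muData_conj hF)
    (fun h2 => ?_) hX hg fun h0 => hg' (h4 g h0)
  have hμ : (Finset.univ.filter fun a : F => conj hF a * a = 1).card = q + 1 := by
    have := card_norm_one hF
    rw [Nat.card_eq_fintype_card, Fintype.card_subtype] at this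
    rw [← this]
    congr 1
    ext a
    rw [Finset.mem_filter, Finset.mem_filter, conj_apply, pow_succ]
  obtain ⟨a, ha, ha'⟩ := exists_pow_four_ne _ (show 4 < _ by
    rw [hμ]
    have h5 := Fintype.one_lt_card (α := F)
    have h6 : q ≠ 2 := by
      rintro rfl
      have := FiniteField.cast_card_eq_zero F
      rw [hF] at this
      exact h2 (pow_eq_zero_iff two_ne_zero |>.1 (by exact_mod_cast this))
    by_contra h7
    obtain rfl | rfl : q = 0 ∨ q = 1 := by omega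
    all_goals simp [hF] at h5)
  exact ⟨a, by simpa using ha, ha'⟩

end CfsgLib.Low4
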